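import Groth.Agent.CohenLib.DerExt

/-!
# Uniqueness of coefficient fields
-/

set_option autoImplicit false
set_option linter.style.haveILetI false

universe u

open TensorProduct IsLocalRing

namespace CoeffUniqueLib

/-- A coefficient field of a complete local ring is unique exactly when the residue field has no differentials. -/
theorem unique_iff {C K : Type u} [CommRing C] [IsLocalRing C] [IsNoetherianRing C] [IsAdicComplete (maximalIdeal C) C]
    [Field K] (hm : maximalIdeal C ≠ ⊥) (r : C →+* K) (hr : ∀ x, r x = 0 ↔ x ∈ maximalIdeal C)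
    (u : K →+* C) (hu : ∀ x, r (u x) = x) :
    (∀ v : K →+* C, (∀ x, r (v x) = x) → v = u) ↔ Subsingleton (Ω[K⁄ℤ]) := by
  classical
  letI : Algebra (K) C := u.toAlgebra
  constructor
  · intro huniq
    by_contra hns
    rw [not_subsingleton_iff_nontrivial] at hns
    obtain ⟨ω, hω⟩ := exists_ne (0 : Ω[K⁄ℤ])
    obtain ⟨l, hl⟩ := not_forall.1 fun hall => hω ((Module.forall_dual_apply_eq_zero_iff (K) ω).1 hall)
    let D₀ : Derivation ℤ (K) (K) := l.compDer (KaehlerDifferential.D ℤ (K))
    obtain ⟨c₀, hc₀⟩ : ∃ c, D₀ c ≠ 0 := by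
      by_contra hcon
      push Not at hcon
      have h1 : l = 0 := LinearMap.ext_on (KaehlerDifferential.span_range_derivation ℤ (K))
        (fun y ⟨c, hc⟩ => by rw [LinearMap.zero_apply, ← hc]; exact hcon c)
      exact hl (by rw [h1]; rfl)
    obtain ⟨t, ht, ht2⟩ : ∃ t ∈ maximalIdeal C, t ∉ maximalIdeal C ^ 2 := by
      by_contra hcon
      push Not at hcon
      refine hm (Submodule.eq_bot_of_le_smul_of_le_jacobson_bot (maximalIdeal C) (maximalIdeal C)
        (IsNoetherian.noetherian _) ?_ (IsLocalRing.maximalIdeal_le_jacobson _))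
      rw [smul_eq_mul, ← pow_two]
      exact hcon
    obtain ⟨P, hP, hPD⟩ := CohenLib.exists_perfect_subfield (K)
    haveI : Algebra.FormallySmooth P (K) :=
      Groth.Agent.PerfectFieldLib.formallySmooth_of_perfectField P (K)
    let F : K → C := fun c => u c + u (D₀ c) * t
    have htt : t * t ∈ maximalIdeal C ^ 2 := by rw [pow_two]; exact Ideal.mul_mem_mul ht ht
    let f₀ : K →+* C ⧸ maximalIdeal C ^ 2 :=
      { toFun := fun c => Ideal.Quotient.mk _ (F c)
        map_one' := by simp [F]
        map_zero' := by simp [F]
        map_add' := fun x y => by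
          rw [← map_add]
          refine congrArg _ ?_
          simp only [F, map_add]
          ring
        map_mul' := fun x y => by
          rw [← map_mul]
          refine (Ideal.Quotient.eq.2 ?_).symm
          have h1 : F x * F y - F (x * y) = u (D₀ x) * u (D₀ y) * (t * t) := by
            simp only [F, Derivation.leibniz, map_add, smul_eq_mul, map_mul]
            ring
          rw [h1]
          exact Ideal.mul_mem_left _ _ htt }
    letI : Algebra P C := (u.comp (algebraMap P (K))).toAlgebra
    let f₁ : K →ₐ[P] C ⧸ maximalIdeal C ^ 2 :=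
      { f₀ with
        commutes' := fun c => by
          show Ideal.Quotient.mk _ (F (algebraMap P (K) c)) = Ideal.Quotient.mk _ (algebraMap P C c)
          refine congrArg _ ?_
          show u _ + u (D₀ (algebraMap P (K) c)) * t = u (algebraMap P (K) c)
          rw [show D₀ (algebraMap P (K) c) = 0 from hPD (K) D₀ _ c.2, map_zero, zero_mul,
            add_zero] }
    obtain ⟨g, hg⟩ := CohenLib.LiftsAdic.exists_lift_complete (k := P) (A := K)
      (fun B _ _ J hJ ψ _ => ⟨Algebra.FormallySmooth.lift J ⟨2, hJ⟩ ψ, Algebra.FormallySmooth.comp_lift J ⟨2, hJ⟩ ψ⟩)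
      (maximalIdeal C) f₁ fun x hx => by
        rw [IsLocalRing.maximalIdeal_eq_bot, Ideal.mem_bot] at hx
        rw [hx, map_zero]
        exact zero_mem _
    have hgu := huniq g.toRingHom fun x => by
      have h1 : g x - F x ∈ maximalIdeal C := Ideal.pow_le_self two_ne_zero (Ideal.Quotient.eq.1 (hg x))
      have h2 := (hr _).2 h1
      rw [map_sub, sub_eq_zero, map_add, map_mul, hu, (hr t).2 ht, mul_zero, add_zero] at h2
      exact h2
    have h3 : g c₀ - F c₀ ∈ maximalIdeal C ^ 2 := Ideal.Quotient.eq.1 (hg c₀)
    rw [show g c₀ = u c₀ from RingHom.congr_fun hgu c₀] at h3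
    simp only [F, sub_add_cancel_left, neg_mem_iff] at h3
    exact ht2 ((Ideal.unit_mul_mem_iff_mem _ (IsUnit.map u (isUnit_iff_ne_zero.2 hc₀))).1 h3)
  · intro hΩ v hv
    have key : ∀ (n : ℕ) (x : K), v x - u x ∈ maximalIdeal C ^ (n + 1) := by
      intro n
      induction n with
      | zero =>
        intro x
        rw [zero_add, pow_one, ← hr, map_sub, hv, hu, sub_self]
      | succ n ih =>
        intro x
        let I := maximalIdeal C ^ (n + 1 + 1)
        let E : K →+ C ⧸ I :=
          (Ideal.Quotient.mk I).toAddMonoidHom.comp (v.toAddMonoidHom - u.toAddMonoidHom)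
        let D : Derivation ℤ (K) (C ⧸ I) := Derivation.mk' E.toIntLinearMap fun a b => by
          show Ideal.Quotient.mk I (v (a * b) - u (a * b)) =
            a • Ideal.Quotient.mk I (v b - u b) + b • Ideal.Quotient.mk I (v a - u a)
          rw [Algebra.smul_def, Algebra.smul_def,
            show algebraMap (K) (C ⧸ I) a = Ideal.Quotient.mk I (u a) from rfl,
            show algebraMap (K) (C ⧸ I) b = Ideal.Quotient.mk I (u b) from rfl,
            ← map_mul, ← map_mul, ← map_add, Ideal.Quotient.eq]
          have h1 : v (a * b) - u (a * b) - (u a * (v b - u b) + u b * (v a - u a)) = (v a - u a) * (v b - u b) := by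
            rw [map_mul, map_mul]
            ring
          rw [h1]
          have h2 := Ideal.mul_mem_mul (ih a) (ih b)
          rw [← pow_add] at h2
          exact Ideal.pow_le_pow_right (by omega) h2
        have h3 : D.liftKaehlerDifferential (KaehlerDifferential.D ℤ (K) x) = 0 := by
          rw [Subsingleton.elim (KaehlerDifferential.D ℤ (K) x) 0, map_zero]
        rw [Derivation.liftKaehlerDifferential_comp_D] at h3
        exact Ideal.Quotient.eq_zero_iff_mem.1 h3
    refine RingHom.ext fun x => sub_eq_zero.1 ?_
    refine IsHausdorff.haus' (I := maximalIdeal C) _ fun n => ?_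
    rw [SModEq.zero, smul_eq_mul, Ideal.mul_top]
    exact Ideal.pow_le_pow_right n.le_succ (key n x)

end CoeffUniqueLib
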